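import Cfsg.Agent.Lib.FH.B
import Cfsg.Agent.Lib.BG.T03_6a
import Cfsg.Agent.Lib.HH.Height
import Cfsg.Agent.Lib.HH.MaxInv

/-!
# Frobenius groups of automorphisms whose kernel has no fixed points: nilpotency
-/

set_option autoImplicit false

namespace Cfsg.Lib.FH

open Subgroup Cfsg.Lib.BG Cfsg.Lib.Transfer Cfsg.Lib.HH

universe u

theorem orbit_prod {A V : Type*} [Group A] [Finite A] [CommGroup V] (φ : A →* MulAut V) (Y : Subgroup A)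
    (U : Subgroup V) (w : V) (h : ∀ y ∈ Y, φ y w = w ∨ φ y w ∈ U) : ∃ x, (∀ y ∈ Y, φ y x = x) ∧ w⁻¹ * x ∈ U := by
  classical
  have := Fintype.ofFinite Y
  let O : Finset V := Finset.univ.image fun y : Y => φ y w
  have h1 : ∀ y ∈ Y, ∀ o ∈ O, φ y o ∈ O := fun y hy o ho => by
    obtain ⟨z, -, rfl⟩ := Finset.mem_image.1 ho
    exact Finset.mem_image.2 ⟨⟨y, hy⟩ * z, Finset.mem_univ _, by simp⟩
  refine ⟨∏ o ∈ O, o, fun y hy => ?_, ?_⟩
  · rw [map_prod]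
    exact Finset.prod_nbij' (φ y) (φ y⁻¹) (h1 y hy) (h1 _ (inv_mem hy)) (by simp) (by simp) (by simp)
  · rw [← Finset.mul_prod_erase O _ (Finset.mem_image.2 ⟨1, Finset.mem_univ _, by simp⟩ : w ∈ O), inv_mul_cancel_left]
    refine prod_mem fun o ho => ?_
    obtain ⟨h2, h3⟩ := Finset.mem_erase.1 ho
    obtain ⟨z, -, rfl⟩ := Finset.mem_image.1 h3
    exact (h z z.2).resolve_left h2

section
variable {G : Type*} [Group G] [Finite G] {N F H V U Q B Y : Subgroup G} {p q : ℕ} {w : G}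

open scoped IsMulCommutative in
theorem orbit_prod' (hV : IsMulCommutative V) (hY : Y ≤ 𝐍(V)) (hw : w ∈ V)
    (h : ∀ y ∈ Y, y * w * y⁻¹ = w ∨ y * w * y⁻¹ ∈ U) : ∃ x ∈ V ⊓ 𝐂(Y), w⁻¹ * x ∈ U := by
  obtain ⟨x, h1, h2⟩ := orbit_prod V.normalizerMonoidHom (Y.subgroupOf 𝐍(V)) (U.subgroupOf V) ⟨w, hw⟩ fun y hy =>
    (h y hy).imp Subtype.ext id
  exact ⟨x, ⟨x.2, mem_cent.2 fun y hy => mul_inv_eq_iff_eq_mul.1 (congrArg Subtype.val (h1 ⟨y, hY hy⟩ hy))⟩, h2⟩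

/-- The product over the orbit of a point of a Wedderburn component. -/
theorem comp_fix (hq : q.Prime) (hV : IsMulCommutative V) (hQ : IsMulCommutative Q) (h1 : Q ≤ 𝐍(V))
    (hc : (Nat.card Q).Coprime (Nat.card V)) (h0 : V ⊓ 𝐂(Q) = ⊥) (hB : B ≤ Q) (hi : B.relIndex Q = q)
    (y1 : Y ≤ 𝐍(V)) (y2 : Y ≤ 𝐍(Q)) (hw : w ∈ V ⊓ 𝐂(B) ⊓ 𝐂(Y ⊓ 𝐍(B))) : ∃ x ∈ V ⊓ 𝐂(Y), w⁻¹ * x ∈ ⁅V, B⁆ := by
  refine orbit_prod' hV y1 hw.1.1 fun y hy => ?_
  by_cases e : y ∈ 𝐍(B)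
  · exact Or.inl (mul_inv_eq_iff_eq_mul.2 (mem_cent.1 hw.2 y ⟨hy, e⟩))
  have h2 : y ⋆ B ≤ Q := conj_le_of_norm hB (y2 hy)
  have h3 := sup_eq_of_relIndex_prime_of_ne hq h2 (by rw [← hi, ← relIndex_conj y B Q, conj_eq_of_norm (y2 hy)]) hB hi
    fun e' => e (norm_of_conj_eq e')
  have h4 := coprime_comm_eq_of_cent_bot (A := B) (K := V ⊓ 𝐂(y ⋆ B))
    (norm_inf (hB.trans h1) (norm_cent (hB.trans (abelian_norm hQ h2)))) (coprime_mono hc hB inf_le_left)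
    (Or.inl (abelian_sol (abelian_of_le hQ hB))) (by rw [inf_assoc, ← cent_sup, h3, h0])
  refine Or.inr (commutator_mono inf_le_left le_rfl (h4.ge ⟨conj_mem_of_norm (y1 hy) hw.1.1, ?_⟩))
  rw [← conj_centralizer]
  exact conj_mem_conj.2 hw.1.2

/-- The fixed points of `H` in `Q` act faithfully on the fixed points of `H` in `V`. -/
theorem Fr.cent_of_cent [hq : Fact q.Prime] (h : Fr V F H) (hV : IsMulCommutative V) (hQ : IsElementaryAbelian q Q)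
    (hQ1 : Q ≠ ⊥) (h1 : Q ≤ 𝐍(V)) (hc : (Nat.card Q).Coprime (Nat.card V)) (h0 : V ⊓ 𝐂(Q) = ⊥) (hF : F ≤ 𝐍(Q))
    (hH : H ≤ 𝐍(Q)) {d : G} (hd : d ∈ Q) (hd' : V ⊓ 𝐂(H) ≤ 𝐂[d]) : V ≤ 𝐂[d] := by
  refine Coprime.le_of_forall_hyperplane' hQ hQ1 h1 hc fun B hB hi => ?_
  by_cases hW : V ⊓ 𝐂(B) = ⊥
  · rw [hW]; exact bot_le
  have dp := (coprime_abelian_cent_dprod (hB.trans h1) (coprime_mono hc hB le_rfl) hV).inf
  have h2 : Fr (V ⊓ 𝐂(B)) (F ⊓ 𝐍(B)) (H ⊓ 𝐍(B)) := by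
    refine ⟨⟨norm_inf (inf_le_left.trans h.norm) (norm_cent inf_le_right), nil_of_le h.nil inf_le_left,
      eq_bot_iff.2 fun w hw => ?_⟩, norm_inf (inf_le_left.trans h.hN) (norm_cent inf_le_right),
      norm_inf (inf_le_left.trans h.hF) (norm_norm inf_le_right), fun x hx x1 =>
        eq_bot_mono (h.reg x hx.1 x1) (inf_le_inf_right _ inf_le_left)⟩
    obtain ⟨x, h3, h4⟩ := comp_fix hq.out hV hQ.1 h1 hc h0 hB hi h.norm hF hw
    rw [h.fpf, mem_bot] at h3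
    rw [h3, mul_one, inv_mem_iff] at h4
    exact dp ▸ mem_inf.2 ⟨h4, hw.1⟩
  obtain ⟨w, hw, w1⟩ := exists_ne_one (h2.fix_ne hW)
  obtain ⟨x, h3, h4⟩ := comp_fix hq.out hV hQ.1 h1 hc h0 hB hi h.hN hH hw
  have hdB : Q ≤ 𝐍(B) := abelian_norm hQ.1 hB
  have h5 : d * w * d⁻¹ * w⁻¹ ∈ ⁅V, B⁆ ⊓ (V ⊓ 𝐂(B)) := by
    refine mem_inf.2 ⟨?_, mul_mem (conj_mem_of_norm (norm_inf h1 (norm_cent hdB) hd) hw.1) (inv_mem hw.1)⟩
    have h6 := mul_mem (conj_mem_of_norm (left_norm_comm V B h3.1)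
      (inv_mem (conj_mem_of_norm (norm_comm h1 hdB hd) h4))) (conj_mem_of_norm (left_norm_comm V B hw.1.1) h4)
    have h7 := mem_cent1.1 (hd' h3)
    convert h6 using 1
    rw [show x * (d * (w⁻¹ * x) * d⁻¹)⁻¹ * x⁻¹ = (x * d) * x⁻¹ * w * d⁻¹ * x⁻¹ by group, h7]
    group
  rw [dp, mem_bot, mul_inv_eq_one, mul_inv_eq_iff_eq_mul] at h5
  by_cases hd2 : zpowers d ≤ B
  · exact inf_le_right.trans (cent_le_cent1 (hd2 (mem_zpowers d)))
  refine (w1 (mem_bot.1 (h0 ▸ mem_inf.2 ⟨hw.1.1, ?_⟩))).elim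
  rw [← sup_eq_of_relIndex_prime hq.out hB hi (zpowers_le_of_mem hd) hd2, cent_sup, cent_zpowers]
  exact ⟨hw.1.2, mem_cent1.2 h5.symm⟩

theorem nil_step (h : Fr N F H) (hn : Group.IsNilpotent ↥(N ⊓ 𝐂(H)))
    (ih : ∀ M : Subgroup G, M < N → F ≤ 𝐍(M) → H ≤ 𝐍(M) → Group.IsNilpotent M)
    (ih' : ∀ M : Subgroup G, Nml M N → M ≠ ⊥ → F ≤ 𝐍(M) → H ≤ 𝐍(M) → nilRes N ≤ M) : Group.IsNilpotent N := by
  by_contra hN
  have hA : F ⊔ H ≤ 𝐍(N) ⊓ 𝐍(F) := sup_le (le_inf h.norm (le_norm F)) (le_inf h.hN h.hF)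
  replace ih : ∀ M : Subgroup G, M < N → F ⊔ H ≤ 𝐍(M) → Group.IsNilpotent M := fun M h1 h2 =>
    ih M h1 (le_sup_left.trans h2) (le_sup_right.trans h2)
  replace ih' : ∀ M : Subgroup G, Nml M N → M ≠ ⊥ → F ⊔ H ≤ 𝐍(M) → nilRes N ≤ M := fun M h0 h1 h2 =>
    ih' M h0 h1 (le_sup_left.trans h2) (le_sup_right.trans h2)
  have hAN := hA.trans inf_le_left
  have V1 : nilRes N ≠ ⊥ := mt nilRes_eq_bot_iff.1 hN
  have Vn : Nml (nilRes N) N := ⟨nilRes_le N, norm_nilRes (le_norm N)⟩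
  have VA : F ⊔ H ≤ 𝐍(nilRes N) := norm_nilRes hAN
  have Vq : Group.IsNilpotent (quo N (nilRes N)) :=
    res_one_eq_bot_iff.1 ((res_quo_eq_bot_iff Vn.norm 1).2 le_rfl)
  generalize nilRes N = V at *
  rcases eq_or_lt_of_le Vn.le with rfl | hVN
  · obtain ⟨p, hp, hd, h2⟩ : ∃ p : ℕ, p.Prime ∧ p ∣ Nat.card V ∧ p ≠ 2 := by
      by_contra! e
      exact hN (pgroup_nil (p := 2) (PiGrp.pgroup e))
    have := Fact.mk hp
    obtain ⟨S, hS, h1⟩ := h.syl p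
    have h3 := (hA.trans (h.syl_norm hS h1)).trans (PLocal.normalizer_le_normalizer_centerThompsonOf (e := p) S)
    have h4 := PLocal.centerThompsonOf_le (e := p) S
    have h5 := hasNormalPComplement_iff.1 (npc_of_zj h2 hS le_rfl (ih _ (lt_of_le_of_ne inf_le_left fun e =>
      hN (pgroup_nil (pgroup_of_le hS.pgroup ((ih' _ ⟨h4.trans hS.le, inf_eq_left.1 e⟩
        (PLocal.centerThompsonOf_ne_bot (Or.inr rfl) hS.pgroup (hS.ne_bot' hd)) h3).trans h4))))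
      (norm_inf VA (norm_norm h3))))
    by_cases e : 𝐎({p}ᶜ, V) = ⊥
    · exact hN (pgroup_nil (PiGrp.pgroup (compl_compl ({p} : Set ℕ) ▸ h5.eq_bot_iff.1 e)))
    · exact PiGrp.p'_iff.1 (h5.pi.of_le (ih' _ (pcore_nml _ _) e (norm_pcore VA _))) hd
  have Vnil := ih V hVN VA
  have Vab : IsMulCommutative V := abelian_iff.2 ((ih' _ Vn.center (center_ne_bot_of_nil Vnil V1)
    (norm_center VA)).trans inf_le_right)
  obtain ⟨q, hq, hqd, hQ⟩ : ∃ q : ℕ, q.Prime ∧ q ∣ Nat.card N ∧ ∀ P, Syl q P N → ¬ N ≤ 𝐍(P) := by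
    by_contra! e
    exact hN (Syl.nil_of_forall e)
  have := Fact.mk hq
  obtain ⟨Q, hS, h1⟩ := h.syl q
  have QA := hA.trans (h.syl_norm hS h1)
  have QV : Q ≤ 𝐍(V) := hS.le.trans Vn.norm
  replace hQ := hQ Q hS
  have n1 : N ≤ 𝐍(V ⊔ Q) := norm_of_quo_norm Vn.norm QV ((hS.quo Vn.norm).nml_of_nil Vq).norm
  have hVQ : ¬ V ≤ Q := fun e => hQ (by rwa [sup_eq_right.2 e] at n1)
  have cop : (Nat.card Q).Coprime (Nat.card V) := by
    refine (PiGrp.coprime_pgroup (PiGrp.p'_iff.2 fun e => hVQ ?_) hS.pgroup).symm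
    exact (ih' _ (Vn.pcore {q}) ((nil_pcore_Hall Vnil _).ne_bot hq e rfl) (norm_pcore VA _)).trans
      (hS.ge_of_nml (Vn.pcore _) (pcore_pi _ _))
  obtain rfl : V ⊔ Q = N := by
    by_contra e
    have h2 := ih _ (lt_of_le_of_ne (sup_le Vn.le hS.le) e) (norm_sup VA QA)
    exact hQ ((hS.of_le le_sup_right (sup_le Vn.le hS.le)).eq_of_nil h2 ▸ norm_pcore n1 _)
  have key : ∀ R : Subgroup G, Nml R Q → F ⊔ H ≤ 𝐍(R) → R ≤ 𝐂(V) → R = ⊥ := fun R r1 r2 r3 => by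
    by_contra e
    exact hVQ ((ih' R ⟨r1.le.trans le_sup_right, sup_le (norm_of_cent (cent_symm r3)) r1.norm⟩ e r2).trans r1.le)
  have Q1 := hS.ne_bot' hqd
  have hE : IsElementaryAbelian q Q := by
    have r1 := (Nml.refl Q).center.Ohm1 q
    have r2 := norm_Ohm1 (norm_center QA) q
    suffices omegaOne q 𝐙(Q) = Q from this ▸ elab_Ohm1_center q Q
    by_contra e
    refine Ohm1_center_ne_bot hS.pgroup Q1 (key _ r1 r2 (nil_cent_of_coprime (ih (V ⊔ _) (lt_of_le_of_ne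
      (sup_le_sup_left r1.le V) fun e' => e ?_) (norm_sup VA r2)) le_sup_right le_sup_left (coprime_mono cop r1.le le_rfl)))
    have := modular_right r1.le (r1.le.trans QV)
    rwa [e', disjoint_of_coprime cop.symm, bot_sup_eq, inf_eq_right.2 le_sup_right, eq_comm] at this
  have h0 : V ⊓ 𝐂(Q) = ⊥ := by
    by_contra e
    exact hQ (sup_le (norm_of_cent ((ih' _ ⟨inf_le_left.trans le_sup_left, sup_le (abelian_norm Vab inf_le_left)
      (norm_inf QV (norm_cent (le_norm Q)))⟩ e (norm_inf VA (norm_cent QA))).trans inf_le_right)) (le_norm Q))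
  refine (h.sub le_sup_right h1 (le_sup_right.trans QA)).fix_ne Q1 (eq_bot_mono (key _ (Nml.cent QV)
    (norm_inf QA (norm_cent VA)) inf_le_right) (le_inf inf_le_left fun d hd => le_cent1_iff.1 ?_))
  refine (h.sub le_sup_left (le_sup_left.trans VA) (le_sup_right.trans VA)).cent_of_cent Vab hE Q1 QV cop h0 h1
    (le_sup_right.trans QA) hd.1 (le_cent1_iff.2 ?_)
  exact nil_cent_of_coprime hn (inf_le_inf_right _ le_sup_right) (inf_le_inf_right _ le_sup_left)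
    (coprime_mono cop inf_le_left inf_le_left) hd

end

theorem nil_aux (n : ℕ) : ∀ (G : Type u) [Group G] [Finite G] (N F H : Subgroup G), Nat.card N = n →
    Fr N F H → Group.IsNilpotent ↥(N ⊓ 𝐂(H)) → Group.IsNilpotent N := by
  induction n using Nat.strong_induction_on with
  | _ n ih =>
  intro G _ _ N F H hn h hC
  subst hn
  refine nil_step h hC (fun M h1 h2 h3 => ih _ (card_lt_of_lt h1) G M F H rfl (h.sub h1.le h2 h3)
    (nil_of_le hC (inf_le_inf_right _ h1.le))) fun M h1 h2 h3 h4 => ?_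
  refine (res_quo_eq_bot_iff h1.norm 1).1 (res_one_eq_bot_iff.2 (ih _ ?_ _ _ _ _ rfl (h.quo h1 h3) ?_))
  · have h5 := card_quo_mul h1
    have h6 : 1 < Nat.card M := (one_lt_card_iff_ne_bot M).2 h2
    have h7 : 0 < Nat.card (quo N M) := Nat.card_pos
    nlinarith
  · rw [(h.sub h1.le h3 h4).quo_cent h1]
    exact nil_quo hC M

theorem Fr.nilpotent {G : Type*} [Group G] [Finite G] {N F H : Subgroup G} (h : Fr N F H)
    (hC : Group.IsNilpotent ↥(N ⊓ 𝐂(H))) : Group.IsNilpotent N := nil_aux _ G N F H rfl h hC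

end Cfsg.Lib.FH
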