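import Cfsg.Agent.Lib.BG.Quo

/-!
# Nilpotent groups acting without fixed points (no coprimeness, no solvability)

If the nilpotent group `F` normalizes `N` and `C_N(F) = 1`, every nilpotent supplement of `N` in `N F` is conjugate
to `F` by an element of `N` (`FP.cj`).
-/

set_option autoImplicit false

namespace Cfsg.Lib.FH

open Subgroup Cfsg.Lib.BG Cfsg.Lib.Transfer

universe u

section
variable {G : Type*} [Group G] {N F E M D Y P : Subgroup G} {p : ℕ} {g : G}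

/-- The nilpotent subgroup `F` acts on `N` without non-trivial common fixed points. -/
structure FP (N F : Subgroup G) : Prop where
  norm : F ≤ 𝐍(N)
  nil : Group.IsNilpotent F
  fpf : N ⊓ 𝐂(F) = ⊥

/-- Every nilpotent supplement of `N` in `N F` is conjugate to `F` under `N`. -/
def CJ (N F : Subgroup G) : Prop :=
  ∀ E : Subgroup G, Group.IsNilpotent E → N ⊔ E = N ⊔ F → ∃ n ∈ N, n ⋆ E = F

theorem FP.sub (h : FP N F) (hM : M ≤ N) (hF : F ≤ 𝐍(M)) : FP M F :=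
  ⟨hF, h.nil, eq_bot_mono h.fpf (inf_le_inf_right _ hM)⟩

theorem FP.disj (h : FP N F) : N ⊓ F = ⊥ := by
  by_contra e
  exact nil_meet_center h.nil inf_le_right (norm_inf h.norm (le_norm F)) e
    (eq_bot_mono h.fpf (inf_le_inf_right _ inf_le_left))

theorem FP.conj (h : FP N F) (hg : g ∈ 𝐍(N)) : FP N (g ⋆ F) := by
  refine ⟨?_, (nil_conj g).2 h.nil, ?_⟩
  · have := map_norm (MulAut.conj g).toMonoidHom h.norm
    rwa [conj_eq_of_norm hg] at this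
  · rw [← conj_centralizer, ← conj_eq_of_norm hg, ← conj_inf, h.fpf, Subgroup.map_bot]

theorem FP.self_norm (h : FP N F) : N ⊓ 𝐍(F) = ⊥ :=
  eq_bot_mono h.fpf (le_inf inf_le_left (cent_of_norm_of_disjoint inf_le_right (norm_inf h.norm (norm_norm (le_norm F)))
    (eq_bot_mono h.disj (inf_le_inf_right _ inf_le_left))))

theorem supp_norm (hF : F ≤ 𝐍(N)) (e : N ⊔ E = N ⊔ F) : E ≤ 𝐍(N) :=
  le_sup_right.trans (e.le.trans (sup_le_norm_left hF))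

theorem supp_restrict (hF : F ≤ 𝐍(N)) (e : N ⊔ E = N ⊔ F) (h1 : E ≤ Y) (h2 : F ≤ Y) : (N ⊓ Y) ⊔ E = (N ⊓ Y) ⊔ F := by
  rw [← modular_right h1 (supp_norm hF e), ← modular_right h2 hF, e]

theorem supp_conj (e : N ⊔ E = N ⊔ F) (hg : g ∈ N) : N ⊔ (g ⋆ E) = N ⊔ F := by
  rw [← e, ← conj_eq_of_mem (H := N ⊔ E) (mem_sup_left hg), conj_sup, conj_eq_of_mem hg]

theorem supp_mono (e : M ⊔ E = M ⊔ F) (h : M ≤ N) : N ⊔ E = N ⊔ F := by
  rw [← sup_eq_left.2 h, sup_assoc, e, ← sup_assoc]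

theorem quo_cj (hg : g ∈ 𝐍(N)) (X : Subgroup G) : quo (g ⋆ X) N = qhom N ⟨g, hg⟩ ⋆ quo X N := by
  ext y
  rw [mem_conj, mem_quo, mem_quo]
  constructor
  · rintro ⟨z, hz, rfl⟩
    exact ⟨⟨g, hg⟩⁻¹ * z * ⟨g, hg⟩, mem_conj.1 hz, by simp⟩
  · rintro ⟨z, hz, e⟩
    exact ⟨⟨g, hg⟩ * z * ⟨g, hg⟩⁻¹, conj_mem_conj.2 hz, by
      rw [map_mul, map_mul, map_inv, e]; group⟩

theorem quo_eq_of_supp (hF : F ≤ 𝐍(N)) (e : N ⊔ E = N ⊔ F) : quo E N = quo F N := by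
  rw [← quo_sup_self (supp_norm hF e), e, quo_sup_self hF]

theorem supp_of_quo_eq (hE : E ≤ 𝐍(N)) (hF : F ≤ 𝐍(N)) (e : quo E N = quo F N) : N ⊔ E = N ⊔ F := by
  rw [← copre_quo hE, e, copre_quo hF]

/-- An element normalizing `M` and `M F` lies in `M N(F)`. -/
theorem CJ.frat (h : CJ M F) (hF : Group.IsNilpotent F) (h1 : g ∈ 𝐍(M)) (h2 : g ∈ 𝐍(M ⊔ F)) :
    ∃ m ∈ M, m * g ∈ 𝐍(F) := by
  obtain ⟨m, hm, e⟩ := h (g ⋆ F) ((nil_conj g).2 hF) (by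
    rw [← conj_eq_of_norm h2, conj_sup, conj_eq_of_norm h1])
  exact ⟨m, hm, norm_of_conj_eq (by rwa [conj_conj] at e)⟩

theorem CJ.quo_fp (h : CJ M F) (hN : FP N F) (hM : Nml M N) (hF : F ≤ 𝐍(M)) : FP (quo N M) (quo F M) := by
  refine ⟨quo_norm hN.norm M, nil_quo hN.nil M, eq_bot_iff.2 ?_⟩
  rintro _ ⟨⟨x, hx, rfl⟩, hc⟩
  have h1 : (x : G) ∈ 𝐍(M ⊔ F) := norm_of_conj_eq (by
    rw [conj_sup, conj_eq_of_norm x.2]
    refine supp_of_quo_eq ?_ hF ?_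
    · exact conj_le_of_mem hF x.2
    · rw [quo_cj x.2, conj_eq_of_cent hc])
  obtain ⟨m, hm, e⟩ := h.frat hN.nil x.2 h1
  have h2 : m * x ∈ N ⊓ 𝐍(F) := ⟨mul_mem (hM.le hm) hx, e⟩
  rw [hN.self_norm, mem_bot, mul_eq_one_iff_inv_eq] at h2
  refine mem_bot.2 ((QuotientGroup.eq_one_iff _).2 ?_)
  change (x : G) ∈ M
  exact h2 ▸ inv_mem hm

theorem CJ.of_quo (h : CJ M F) (hM : Nml M N) (hF : F ≤ 𝐍(M)) (h' : CJ (quo N M) (quo F M)) :
    CJ N F := by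
  intro E hE e
  have hEM : E ≤ 𝐍(M) := le_sup_right.trans (e.le.trans (sup_le hM.norm hF))
  obtain ⟨_, ⟨n, hn, rfl⟩, e'⟩ := h' (quo E M) (nil_quo hE M) (by
    rw [← quo_sup hM.norm hEM, e, quo_sup hM.norm hF])
  rw [← quo_cj n.2] at e'
  obtain ⟨m, hm, e''⟩ := h _ ((nil_conj (n : G)).2 hE) (supp_of_quo_eq (conj_le_of_mem hEM n.2) hF e')
  exact ⟨m * n, mul_mem (hM.le hm) hn, by rwa [conj_conj] at e''⟩

variable [Finite G]

theorem supp_pcore_le (hF : Group.IsNilpotent F) (hFN : F ≤ 𝐍(N)) (e : N ⊔ E = N ⊔ F) {π : Set ℕ}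
    (hP : PiGrp π P) (hPE : P ≤ E) : P ≤ N ⊔ 𝐎(π, F) := by
  have hE := supp_norm hFN e
  rw [← quo_le_quo_iff (hPE.trans hE) ((pcore_le _ _).trans hFN)]
  exact ((nil_pcore_Hall hF π).quo hFN).ge_of_normal (quo_norm (pcore_nml π F).norm N)
    (quo_eq_of_supp hFN e ▸ quo_mono hPE N) (hP.quo N)

theorem supp_pcore (hE : Group.IsNilpotent E) (hF : Group.IsNilpotent F) (hFN : F ≤ 𝐍(N)) (e : N ⊔ E = N ⊔ F)
    (π : Set ℕ) : N ⊔ 𝐎(π, E) = N ⊔ 𝐎(π, F) :=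
  le_antisymm (sup_le le_sup_left (supp_pcore_le hF hFN e (pcore_pi _ _) (pcore_le _ _)))
    (sup_le le_sup_left (supp_pcore_le hE (supp_norm hFN e) e.symm (pcore_pi _ _) (pcore_le _ _)))

/-- A minimal supplement is nilpotent. -/
theorem exists_nil_supp (hF : Group.IsNilpotent F) (hFM : F ≤ 𝐍(M)) (e : M ⊔ Y = M ⊔ F) :
    ∃ E : Subgroup G, E ≤ Y ∧ Group.IsNilpotent E ∧ M ⊔ E = M ⊔ F := by
  obtain ⟨E, ⟨h1, h2⟩, hm⟩ := (wellFounded_lt (α := Subgroup G)).has_min {E | E ≤ Y ∧ M ⊔ E = M ⊔ F} ⟨Y, le_rfl, e⟩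
  refine ⟨E, h1, Syl.nil_of_forall fun q hq _ => ?_, h2⟩
  have := Fact.mk hq
  obtain ⟨Q, hQ⟩ := Syl.exists q E
  refine ⟨Q, hQ, ?_⟩
  have hE := supp_norm hFM h2
  have h3 : E ≤ 𝐍(M ⊔ Q) := norm_of_quo_norm hE (hQ.le.trans hE)
    ((hQ.quo hE).nml_of_nil (quo_eq_of_supp hFM h2 ▸ nil_quo hF M)).norm
  have h4 := Syl.frattini (hQ.of_le (le_inf le_sup_right hQ.le) inf_le_right)
    (⟨inf_le_right, norm_inf h3 (le_norm E)⟩ : Nml ((M ⊔ Q) ⊓ E) E)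
  have h5 : M ⊔ (E ⊓ 𝐍(Q)) = M ⊔ F := by
    refine le_antisymm (h2 ▸ sup_le_sup_left inf_le_left _) (h2 ▸ sup_le le_sup_left (h4.ge.trans ?_))
    exact sup_le (inf_le_left.trans (sup_le_sup_left (le_inf hQ.le (le_norm Q)) _)) le_sup_right
  exact inf_eq_left.1 (by
    by_contra e'
    exact hm _ ⟨inf_le_left.trans h1, h5⟩ (lt_of_le_of_ne inf_le_left e'))

variable [hp : Fact p.Prime]

theorem exists_supp_norm (hF : Group.IsNilpotent F) (hFM : F ≤ 𝐍(M)) (hD : Syl p D M) :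
    ∃ E : Subgroup G, E ≤ 𝐍(D) ∧ Group.IsNilpotent E ∧ M ⊔ E = M ⊔ F := by
  obtain ⟨E, h1, h2⟩ := exists_nil_supp hF hFM (hD.frattini ⟨le_sup_left, sup_le_norm_left hFM⟩)
  exact ⟨E, h1.trans inf_le_right, h2⟩

variable (p) in
theorem CJ.syl (h : CJ M F) (hF : Group.IsNilpotent F) (hFM : F ≤ 𝐍(M)) : ∃ D, Syl p D M ∧ F ≤ 𝐍(D) := by
  obtain ⟨D, hD⟩ := Syl.exists p M
  obtain ⟨E, h1, h2, h3⟩ := exists_supp_norm hF hFM hD
  obtain ⟨m, hm, rfl⟩ := h E h2 h3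
  exact ⟨m ⋆ D, hD.conj_of_mem hm, map_norm _ h1⟩

theorem dvd_card_cent (hP : IsPGroup p P) (hPN : P ≤ 𝐍(N)) (h : p ∣ Nat.card N) : p ∣ Nat.card ↥(N ⊓ 𝐂(P)) := by
  obtain ⟨S, hS, hPS⟩ := Syl.exists_ge hP (le_sup_right : P ≤ N ⊔ P)
  have hN : Nml N (N ⊔ P) := ⟨le_sup_left, sup_le_norm_left hPN⟩
  have h1 : Syl p (S ⊓ N) N := hS.inf_nml hN
  exact (pgroup_dvd_card (pgroup_of_le hS.pgroup (inf_le_left.trans inf_le_left)) (nil_meet_center hS.nil inf_le_left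
    (norm_inf (le_norm S) (hS.le.trans hN.norm)) (h1.ne_bot' h))).trans
    (card_dvd (inf_le_inf inf_le_right (cent_anti hPS)))

omit hp in
/-- The case where the `p'`-part of `F` is already fixed-point-free. -/
theorem cj_of_part (h : FP N F) (h0 : N ⊓ 𝐂(𝐎({p}ᶜ, F)) = ⊥) (ih : CJ N 𝐎({p}ᶜ, F)) : CJ N F := by
  intro E hE e
  obtain ⟨n, hn, e1⟩ := ih _ (nil_of_le hE (pcore_le _ _)) (supp_pcore hE h.nil h.norm e {p}ᶜ)
  have hE' := (nil_conj n).2 hE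
  have e' := supp_conj e hn
  rw [conj_pcore] at e1
  refine ⟨n, hn, ?_⟩
  generalize n ⋆ E = E' at *
  have d := nil_pcore_dprod hE' {p}
  have d' := nil_pcore_dprod h.nil {p}
  have h1 : 𝐎({p}, E') ≤ (N ⊔ 𝐎({p}, F)) ⊓ 𝐂(𝐎({p}ᶜ, F)) :=
    le_inf (supp_pcore_le h.nil h.norm e' (pcore_pi _ _) (pcore_le _ _)) (e1 ▸ d.cent)
  rw [modular_right d'.cent ((pcore_le _ _).trans h.norm), h0, bot_sup_eq] at h1
  have h2 : E' ≤ F := d.sup ▸ sup_le (h1.trans (pcore_le _ _)) (e1 ▸ pcore_le _ _)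
  have h3 := modular_right h2 (h2.trans h.norm)
  rw [e', h.disj, bot_sup_eq, inf_eq_right.2 le_sup_right] at h3
  exact h3.symm

/-- The climbing lemma. -/
theorem climb (h : FP N F) (ih : ∀ M E : Subgroup G, M < N → Nat.card E = Nat.card F → FP M E → CJ M E)
    (h0 : ∀ D : Subgroup G, IsPGroup p D → Nml D N → D = ⊥) {S : Subgroup G} (hS : Syl p S N) (hFS : F ≤ 𝐍(S))
    (D : Subgroup G) : ∀ E : Subgroup G, IsPGroup p D → D ≤ N → D ≠ ⊥ → E ≤ 𝐍(D) → Group.IsNilpotent E →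
      N ⊔ E = N ⊔ F → ∃ n ∈ N, n ⋆ E = F := by
  induction D using WellFoundedGT.induction with
  | ind D ihD =>
  intro E hD hDN hD1 hED hE e
  have lt : ∀ D : Subgroup G, IsPGroup p D → D ≤ N → D ≠ ⊥ → N ⊓ 𝐍(D) < N := fun D h1 h2 h3 =>
    lt_of_le_of_ne inf_le_left fun e => h3 (h0 D h1 ⟨h2, inf_eq_left.1 e⟩)
  by_cases hDS : Syl p D N
  · obtain ⟨n, hn, rfl⟩ := hDS.exists_conj_eq hS
    obtain ⟨m, hm, e'⟩ := ih _ F (lt _ hS.pgroup hS.le (mt conj_eq_bot_iff.1 hD1)) rfl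
      (h.sub inf_le_left (norm_inf h.norm (norm_norm hFS))) (n ⋆ E) ((nil_conj n).2 hE)
      (supp_restrict h.norm (supp_conj e hn) (map_norm _ hED) hFS)
    exact ⟨m * n, mul_mem hm.1 hn, by rwa [conj_conj] at e'⟩
  · obtain ⟨T, hT, hDT⟩ := Syl.exists_ge hD (le_inf hDN (le_norm D))
    have hEM : E ≤ 𝐍(N ⊓ 𝐍(D)) := norm_inf (supp_norm h.norm e) (norm_norm hED)
    obtain ⟨E1, h1, h2, h3⟩ := exists_supp_norm hE hEM hT
    obtain ⟨n, hn, e1⟩ := ihD T (lt_of_le_of_ne hDT fun e => hDS (Syl.of_norm (e ▸ hT))) E1 hT.pgroup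
      (hT.le.trans inf_le_left) (ne_bot_mono hD1 hDT) h1 h2 ((supp_mono h3 inf_le_left).trans e)
    have h4 : FP N E1 := by
      have := h.conj (inv_mem (le_norm N hn))
      rwa [← e1, inv_conj_conj] at this
    obtain ⟨m, hm, e'⟩ := ih _ E1 (lt D hD hDN hD1) (by rw [← e1, card_conj])
      (h4.sub inf_le_left (supp_norm hEM h3)) E hE h3.symm
    exact ⟨n * m, mul_mem hn hm.1, by rw [← conj_conj, e', e1]⟩

/-- The case of a minimal normal subgroup of order prime to `p`. -/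
theorem cj_of_p' (h : FP N F) (ih : CJ (N ⊓ 𝐂(𝐎({p}, F))) F) (hd : ¬ p ∣ Nat.card N) : CJ N F := by
  intro E hE e
  have hPN : 𝐎({p}, F) ≤ 𝐍(N) := (pcore_le _ _).trans h.norm
  have hd' := PiGrp.p'_iff.2 hd
  have di : N ⊓ 𝐎({p}, F) = ⊥ := by rw [inf_comm]; exact (pcore_pi _ _).inf_eq_bot hd'
  have hS : Syl p 𝐎({p}, F) (N ⊔ 𝐎({p}, F)) := by
    have := (Hall.of_sd (SD.of_norm hPN di) hd' (by rw [compl_compl]; exact pcore_pi _ _)).2
    rwa [compl_compl] at this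
  have e0 := supp_pcore hE h.nil h.norm e {p}
  obtain ⟨g, hg, h1⟩ := hS.exists_conj_le (pcore_pgroup p E) (le_sup_right.trans e0.le)
  obtain ⟨y, hy, n, hn, rfl⟩ := exists_mul_of_mem_sup' hPN hg
  rw [← conj_conj, conj_le_iff_le_inv_conj, conj_eq_of_mem (inv_mem hy), conj_pcore] at h1
  have hE' := (nil_conj n).2 hE
  have e' := supp_conj e hn
  have h2 := modular_right h1 (h1.trans hPN)
  rw [supp_pcore hE' h.nil h.norm e', di, bot_sup_eq, inf_eq_right.2 le_sup_right] at h2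
  have h3 := supp_restrict h.norm e' (h2 ▸ (pcore_nml _ _).norm) (pcore_nml {p} F).norm
  rw [coprime_norm_cent hPN ((pcore_pi _ _).coprime hd')] at h3
  obtain ⟨m, hm, e''⟩ := ih _ hE' h3
  exact ⟨m * n, mul_mem hm.1 hn, by rwa [conj_conj] at e''⟩

theorem cj_step (h : FP N F) (ih : ∀ M E : Subgroup G, M < N → Nat.card E = Nat.card F → FP M E → CJ M E)
    (hmin : ∀ M : Subgroup G, Nml M N → F ≤ 𝐍(M) → M = ⊥ ∨ M = N) (h0 : N ⊓ 𝐂(𝐎({p}ᶜ, F)) ≠ ⊥) : CJ N F := by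
  have d' := nil_pcore_dprod h.nil {p}
  have hPN : 𝐎({p}, F) ≤ 𝐍(N) := (pcore_le _ _).trans h.norm
  have hAN : 𝐎({p}ᶜ, F) ≤ 𝐍(N) := (pcore_le _ _).trans h.norm
  have c0 : N ⊓ 𝐂(𝐎({p}ᶜ, F)) ⊓ 𝐂(𝐎({p}, F)) = ⊥ := by rw [inf_assoc, ← cent_sup, d'.symm.sup, h.fpf]
  have c1 : N ⊓ 𝐂(𝐎({p}, F)) < N := lt_of_le_of_ne inf_le_left fun e =>
    h0 (eq_bot_mono c0 (le_inf le_rfl (inf_le_left.trans (inf_eq_left.1 e))))
  have c2 := h.sub inf_le_left (norm_inf h.norm (norm_cent (pcore_nml {p} F).norm))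
  by_cases hd : p ∣ Nat.card N
  swap
  · exact cj_of_p' h (ih _ F c1 rfl c2) hd
  have c3 : ¬ p ∣ Nat.card ↥(N ⊓ 𝐂(𝐎({p}ᶜ, F))) := fun e => ne_bot_of_dvd hp.out
    (dvd_card_cent (pcore_pgroup p F) (norm_inf hPN (norm_cent (norm_of_cent d'.cent))) e) c0
  have c4 : ∀ D : Subgroup G, IsPGroup p D → Nml D N → D = ⊥ := fun D h1 h2 => by
    rcases hmin _ (pcore_nml {p} N) (norm_pcore h.norm _) with e | e
    · exact eq_bot_mono e (pcore_max_p h1 h2)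
    · exact absurd (pgroup_dvd_card (pgroup_of_le (e ▸ pcore_pgroup p N) inf_le_left) h0) c3
  obtain ⟨S, hS, hFS⟩ : ∃ S, Syl p S N ∧ F ≤ 𝐍(S) := by
    obtain ⟨D, h1, h2⟩ := (ih _ F c1 rfl c2).syl p h.nil c2.norm
    obtain ⟨S, hS, h3⟩ := maxInv_exists (h1.le.trans inf_le_left) h1.pi h2
    have h4 := ne_bot_mono (h1.ne_bot' (dvd_card_cent (pcore_pgroup p F) hPN hd)) h3
    have h5 := h.sub inf_le_left (norm_inf h.norm (norm_norm (maxInv_norm hS)))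
    obtain ⟨T, h6, h7⟩ := (ih _ F (lt_of_le_of_ne inf_le_left fun e =>
      h4 (c4 S (maxInv_pi hS).pgroup ⟨maxInv_le hS, inf_eq_left.1 e⟩)) rfl h5).syl p h.nil h5.norm
    obtain rfl := maxInv_max hS (h6.le.trans inf_le_left) h6.pi h7
      (h6.ge_of_nml (Nml.inf_norm (maxInv_le hS)) (maxInv_pi hS))
    exact ⟨T, h6.of_norm, h7⟩
  intro E hE e
  have hEN := supp_norm h.norm e
  have e0 := supp_pcore hE h.nil h.norm e {p}
  have hQN : 𝐎({p}, E) ≤ 𝐍(N) := (pcore_le _ _).trans hEN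
  by_cases hC : N ≤ 𝐂(𝐎({p}, E))
  · exfalso
    have nQ : N ⊔ F ≤ 𝐍(𝐎({p}, E)) := e ▸ sup_le (norm_of_cent hC) (pcore_nml _ _).norm
    have dQ : N ⊓ 𝐎({p}, E) = ⊥ := c4 _ (pgroup_of_le (pcore_pgroup p E) inf_le_right)
      ⟨inf_le_left, norm_inf (le_norm N) (norm_of_cent hC)⟩
    have h1 : 𝐎({p}, E) ≤ 𝐂(𝐎({p}ᶜ, F)) := by
      rw [← comm_eq_bot_iff]
      refine eq_bot_mono dQ (le_inf ?_ (comm_le_left (((pcore_le _ _).trans le_sup_right).trans nQ)))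
      rw [← quo_le_cent_iff hQN hAN, quo_eq_of_supp hPN e0]
      exact quo_cent d'.cent N
    have h2 : IsPGroup p ↥(𝐎({p}, E) ⊔ 𝐎({p}, F)) :=
      pgroup_sup (pcore_pgroup p E) (pcore_pgroup p F) (((pcore_le _ _).trans le_sup_right).trans nQ)
    have h3 : N ⊓ (𝐎({p}, E) ⊔ 𝐎({p}, F)) = ⊥ := by
      by_contra h3
      exact c3 ((pgroup_dvd_card (pgroup_of_le h2 inf_le_right) h3).trans
        (card_dvd (inf_le_inf_left _ (sup_le h1 d'.cent))))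
    have h4 := modular_right (le_sup_left : _ ≤ 𝐎({p}, E) ⊔ 𝐎({p}, F)) hQN
    rw [h3, bot_sup_eq] at h4
    have h5 : 𝐎({p}, F) ≤ 𝐎({p}, E) := h4 ▸ le_inf (le_sup_right.trans e0.ge) le_sup_right
    exact c1.ne (inf_eq_left.2 (hC.trans (cent_anti h5)))
  have hEC : E ≤ 𝐍(N ⊓ 𝐂(𝐎({p}, E))) := norm_inf hEN (norm_cent (pcore_nml _ _).norm)
  obtain ⟨D, hD⟩ := Syl.exists p (N ⊓ 𝐂(𝐎({p}, E)))
  obtain ⟨E1, h1, h2, h3⟩ := exists_supp_norm hE hEC hD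
  obtain ⟨n, hn, e1⟩ := climb h ih c4 hS hFS D E1 hD.pgroup (hD.le.trans inf_le_left)
    (hD.ne_bot' (dvd_card_cent (pcore_pgroup p E) hQN hd)) h1 h2 ((supp_mono h3 inf_le_left).trans e)
  have h4 : FP N E1 := by
    have := h.conj (inv_mem (le_norm N hn))
    rwa [← e1, inv_conj_conj] at this
  obtain ⟨m, hm, e'⟩ := ih _ E1 (lt_of_le_of_ne inf_le_left fun e => hC (inf_eq_left.1 e)) (by rw [← e1, card_conj])
    (h4.sub inf_le_left (supp_norm hEC h3)) E hE h3.symm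
  exact ⟨n * m, mul_mem hn hm.1, by rw [← conj_conj, e', e1]⟩

end

theorem cj_aux (n : ℕ) : ∀ (G : Type u) [Group G] [Finite G] (N F : Subgroup G), Nat.card N + Nat.card F = n →
    FP N F → CJ N F := by
  induction n using Nat.strong_induction_on with
  | _ n ih =>
  intro G _ _ N F hn h
  subst hn
  have ih1 : ∀ M E : Subgroup G, M < N → Nat.card E = Nat.card F → FP M E → CJ M E := fun M E h1 h2 =>
    ih _ (by have := card_lt_of_lt h1; omega) G M E rfl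
  by_cases hmin : ∀ M : Subgroup G, Nml M N → F ≤ 𝐍(M) → M = ⊥ ∨ M = N
  · by_cases hF : F = ⊥
    · subst hF
      obtain rfl : N = ⊥ := by simpa using h.fpf
      exact fun E _ e => ⟨1, one_mem _, by rw [conj_one]; simpa using e⟩
    obtain ⟨p, hp, hd⟩ := Nat.exists_prime_and_dvd (card_ne_one hF)
    have := Fact.mk hp
    by_cases h0 : N ⊓ 𝐂(𝐎({p}ᶜ, F)) = ⊥
    · refine cj_of_part h h0 (ih _ ?_ G _ _ rfl ⟨(pcore_le _ _).trans h.norm, nil_of_le h.nil (pcore_le _ _), h0⟩)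
      have := card_lt_of_lt (lt_of_le_of_ne (pcore_le {p}ᶜ F) fun e => PiGrp.p'_iff.1 (e ▸ pcore_pi {p}ᶜ F) hd)
      omega
    · exact cj_step h ih1 hmin h0
  · push Not at hmin
    obtain ⟨M, hM, hF, h1, h2⟩ := hmin
    have h3 := ih1 M F (lt_of_le_of_ne hM.le h2) rfl (h.sub hM.le hF)
    refine h3.of_quo hM hF (ih _ ?_ _ _ _ rfl (h3.quo_fp h hM hF))
    have h4 := card_quo_mul hM
    have h5 := Nat.le_of_dvd Nat.card_pos (card_quo_dvd F M)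
    have h6 : 1 < Nat.card M := (one_lt_card_iff_ne_bot M).2 h1
    have h7 : 0 < Nat.card (quo N M) := Nat.card_pos
    nlinarith

variable {G : Type*} [Group G] [Finite G] {N F M S T : Subgroup G} {p : ℕ} {g : G}

theorem FP.cj (h : FP N F) : CJ N F := cj_aux _ G N F rfl h

theorem FP.quo (h : FP N F) (hM : Nml M N) (hF : F ≤ 𝐍(M)) : FP (quo N M) (quo F M) :=
  (h.sub hM.le hF).cj.quo_fp h hM hF

variable [Fact p.Prime]

variable (p) in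
theorem FP.syl (h : FP N F) : ∃ S, Syl p S N ∧ F ≤ 𝐍(S) := h.cj.syl p h.nil h.norm

theorem FP.syl_uniq (h : FP N F) (hS : Syl p S N) (hT : Syl p T N) (h1 : F ≤ 𝐍(S)) (h2 : F ≤ 𝐍(T)) : S = T := by
  obtain ⟨n, hn, rfl⟩ := hT.exists_conj_eq hS
  obtain ⟨m, hm, e⟩ := (h.sub inf_le_left (norm_inf h.norm (norm_norm h1))).cj (n ⋆ F) ((nil_conj n).2 h.nil)
    (supp_restrict h.norm (supp_conj rfl hn) (map_norm _ h2) h1)
  have h3 : m * n ∈ N ⊓ 𝐍(F) := ⟨mul_mem hm.1 hn, norm_of_conj_eq (by rwa [conj_conj] at e)⟩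
  rw [h.self_norm, mem_bot] at h3
  have h4 := conj_eq_of_norm hm.2
  rw [conj_conj, h3, conj_one] at h4
  exact h4.symm

/-- The invariant Sylow subgroup is invariant under everything normalizing `N` and `F`. -/
theorem FP.syl_norm (h : FP N F) (hS : Syl p S N) (h1 : F ≤ 𝐍(S)) : 𝐍(N) ⊓ 𝐍(F) ≤ 𝐍(S) := fun g hg => by
  refine norm_of_conj_eq (h.syl_uniq (hS.conj_of_norm hg.1) hS ?_ h1)
  have := map_norm (MulAut.conj g).toMonoidHom h1
  rwa [conj_eq_of_norm hg.2] at this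

end Cfsg.Lib.FH
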