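import Cfsg.Agent.Lib.FH.A

/-!
# Frobenius groups of automorphisms whose kernel has no fixed points: covering of fixed points and generation
-/

set_option autoImplicit false

namespace Cfsg.Lib.FH

open Subgroup Cfsg.Lib.BG Cfsg.Lib.Transfer

universe u

section Ab
variable {A V : Type*} [Group A] [Fintype A] [CommGroup V] (φ : A →* MulAut V) {F H : Subgroup A}

open Classical in
theorem prod_fix (B : Subgroup A) (v : V) {b : A} (hb : b ∈ B) :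
    φ b (∏ x : B, φ x v) = ∏ x : B, φ x v := by
  rw [map_prod]
  exact Fintype.prod_equiv (Equiv.mulLeft (⟨b, hb⟩ : B)) _ _ fun x => by simp

open Classical in
/-- Higman's criterion holds: the identity is a relative trace. -/
theorem exists_theta (hF : H ≤ 𝐍(F)) (reg : SemiReg F H) (h0 : ∀ v, (∀ f ∈ F, φ f v = v) → v = 1) :
    ∃ θ : V →* V, ∀ v, ∏ h : H, φ h (θ (φ (h : A)⁻¹ v)) = v := by
  let s : Setoid A := ⟨fun a b => ∃ h ∈ H, h * a * h⁻¹ = b, fun a => ⟨1, one_mem _, by simp⟩,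
    fun ⟨h, h1, e⟩ => ⟨h⁻¹, inv_mem h1, by rw [← e]; group⟩,
    fun ⟨h, h1, e⟩ ⟨k, k1, e'⟩ => ⟨k * h, mul_mem k1 h1, by rw [← e', ← e]; group⟩⟩
  let R : Finset A := Finset.univ.filter fun r => r ∈ F ∧ r ≠ 1 ∧ (Quotient.mk s r).out = r
  refine ⟨(∏ r ∈ R, (φ r).toMonoidHom)⁻¹, fun v => ?_⟩
  have h1 : ∏ x : F, φ x v = 1 := h0 _ fun f hf => prod_fix φ F v hf
  rw [← Finset.mul_prod_erase _ _ (Finset.mem_univ 1), OneMemClass.coe_one, map_one, MulAut.one_apply,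
    mul_eq_one_iff_eq_inv] at h1
  simp only [MonoidHom.inv_apply, MonoidHom.finsetProd_apply, map_inv, map_prod, Finset.prod_inv_distrib]
  conv_rhs => rw [h1]
  rw [inv_inj, ← Finset.prod_product']
  refine Finset.prod_bij (fun x hx => ⟨x.1 * x.2 * (x.1 : A)⁻¹,
    conj_mem_of_norm (hF x.1.2) (Finset.mem_filter.1 (Finset.mem_product.1 hx).2).2.1⟩) ?_ ?_ ?_ ?_
  · rintro ⟨h, r⟩ hx
    have := (Finset.mem_filter.1 (Finset.mem_product.1 hx).2).2.2.1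
    simpa [Subtype.ext_iff] using this
  · rintro ⟨h, r⟩ hx ⟨k, t⟩ hy e
    obtain ⟨r1, r2, r3⟩ := (Finset.mem_filter.1 (Finset.mem_product.1 hx).2).2
    obtain ⟨-, -, t3⟩ := (Finset.mem_filter.1 (Finset.mem_product.1 hy).2).2
    simp only [Subtype.ext_iff] at e r1 r2 r3 t3
    obtain rfl : r = t := by
      have h2 : s r t := ⟨(k : A)⁻¹ * h, mul_mem (inv_mem k.2) h.2, by
        rw [show ((k : A)⁻¹ * h) * r * ((k : A)⁻¹ * h)⁻¹ = (k : A)⁻¹ * (h * r * (h : A)⁻¹) * k by group, e]; group⟩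
      rw [← r3, ← t3, Quotient.sound h2]
    by_contra e'
    have h2 : (k : A)⁻¹ * h ≠ 1 := fun e'' => e' (by rw [Subtype.ext (inv_mul_eq_one.1 e'')])
    refine r2 (mem_bot.1 (reg _ (mul_mem (inv_mem k.2) h.2) h2 ▸ (⟨r1, mem_cent1.2 ?_⟩ : r ∈ F ⊓ 𝐂[(k : A)⁻¹ * h])))
    rw [show (k : A)⁻¹ * h * r = (k : A)⁻¹ * (h * r * (h : A)⁻¹) * h by group, e]
    group
  · rintro ⟨f, hf⟩ h2
    have h3 : f ≠ 1 := by simpa [Subtype.ext_iff] using h2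
    obtain ⟨h, hh, e⟩ : s (Quotient.mk s f).out f := Quotient.exact (Quotient.out_eq _)
    refine ⟨(⟨h, hh⟩, (Quotient.mk s f).out), ?_, Subtype.ext e⟩
    simp only [Finset.mem_product, Finset.mem_univ, true_and, R, Finset.mem_filter, Quotient.out_eq, and_true]
    refine ⟨?_, fun e' => h3 (by rw [← e, e']; simp)⟩
    have := conj_mem_of_norm' (hF hh) hf
    rw [← e] at this
    simpa [mul_assoc] using this
  · simp

open Classical in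
theorem cobound (hF : H ≤ 𝐍(F)) (reg : SemiReg F H) (h0 : ∀ v, (∀ f ∈ F, φ f v = v) → v = 1) (c : H → V)
    (hc : ∀ h k, c (h * k) = c h * φ h (c k)) : ∃ w, ∀ k : H, c k * w = φ k w := by
  obtain ⟨θ, hθ⟩ := exists_theta φ hF reg h0
  refine ⟨∏ h : H, φ h (θ (c h⁻¹)), fun k => ?_⟩
  rw [← hθ (c k), ← Finset.prod_mul_distrib, map_prod]
  refine (Fintype.prod_equiv (Equiv.mulLeft k) _ _ fun x => ?_).symm
  have := hc (k * x)⁻¹ k
  rw [show (k * x)⁻¹ * k = x⁻¹ by group] at this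
  rw [this, Equiv.coe_mulLeft, ← map_mul, ← map_mul, mul_comm (c _), ← MulAut.mul_apply, ← map_mul]
  rfl

open Classical in
theorem pow_card_eq (hF : H ≤ 𝐍(F)) (reg : SemiReg F H) (h0 : ∀ v, (∀ f ∈ F, φ f v = v) → v = 1) (v : V) :
    ∏ f : F, φ (f : A)⁻¹ (∏ h : H, φ h (φ f v)) = v ^ Nat.card F := by
  simp only [map_prod]
  rw [Finset.prod_comm, ← Finset.mul_prod_erase _ _ (Finset.mem_univ 1), Finset.prod_eq_one (s := Finset.erase _ _)]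
  · simp
  intro h hh
  refine Eq.trans ?_ (h0 _ fun f hf => prod_fix φ F (φ h v) hf)
  refine Fintype.prod_bijective (fun f : F => f⁻¹ * ⟨h * f * (h : A)⁻¹, conj_mem_of_norm (hF h.2) f.2⟩)
    (Finite.injective_iff_bijective.1 fun a b e => ?_) _ _ fun f => by simp
  have h1 : (h : A) ≠ 1 := by simpa using hh
  have h2 : b * (a : A)⁻¹ ∈ F ⊓ 𝐂[(h : A)] := ⟨F.mul_mem b.2 (F.inv_mem a.2), mem_cent1.2 (by
    have e' : (a : A)⁻¹ * (h * a * (h : A)⁻¹) = (b : A)⁻¹ * (h * b * (h : A)⁻¹) := congrArg Subtype.val e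
    rw [show b * (a : A)⁻¹ * h = b * ((a : A)⁻¹ * (h * a * (h : A)⁻¹)) * h * (a : A)⁻¹ by group, e']
    group)⟩
  rw [reg _ h.2 h1, mem_bot, mul_inv_eq_one] at h2
  exact (Subtype.ext h2).symm

end Ab

section
variable {G : Type*} [Group G] {N F H M V U Q : Subgroup G} {p : ℕ} {g : G}

/-- `F H` acts on `N`, `F` is nilpotent without fixed points on `N`, and `H` acts regularly on `F`. -/
structure Fr (N F H : Subgroup G) : Prop extends FP N F where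
  hN : H ≤ 𝐍(N)
  hF : H ≤ 𝐍(F)
  reg : SemiReg F H

theorem Fr.sub (h : Fr N F H) (hM : M ≤ N) (h1 : F ≤ 𝐍(M)) (h2 : H ≤ 𝐍(M)) : Fr M F H :=
  ⟨h.toFP.sub hM h1, h2, h.hF, h.reg⟩

theorem Fr.sub' (h : Fr N F H) (hM : M ≤ N) (h1 : 𝐍(N) ⊓ 𝐍(F) ≤ 𝐍(M)) : Fr M F H :=
  h.sub hM ((le_inf h.norm (le_norm F)).trans h1) ((le_inf h.hN h.hF).trans h1)

theorem semiReg_subOf (h : SemiReg F H) (L : Subgroup G) : SemiReg (F.subgroupOf L) (H.subgroupOf L) :=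
  fun x hx h1 => eq_bot_iff.2 fun y hy => Subtype.ext (mem_bot.1 (h x hx (fun e => h1 (Subtype.ext e)) ▸
    (⟨hy.1, mem_cent1.2 (congrArg Subtype.val (mem_cent1.1 hy.2))⟩ : (y : G) ∈ F ⊓ 𝐂[(x : G)])))

theorem fix_subOf (h1 : F ≤ 𝐍(V)) (h : V ⊓ 𝐂(F) = ⊥) (v : V)
    (hv : ∀ f ∈ F.subgroupOf 𝐍(V), V.normalizerMonoidHom f v = v) : v = 1 :=
  Subtype.ext (mem_bot.1 (h ▸ (⟨v.2, mem_cent.2 fun f hf =>
    mul_inv_eq_iff_eq_mul.1 (congrArg Subtype.val (hv ⟨f, h1 hf⟩ hf))⟩ : (v : G) ∈ V ⊓ 𝐂(F))))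

variable [Finite G]

theorem Fr.quo (h : Fr N F H) (hM : Nml M N) (h1 : F ≤ 𝐍(M)) : Fr (quo N M) (quo F M) (quo H M) := by
  refine ⟨h.toFP.quo hM h1, quo_norm h.hN M, quo_norm h.hF M, ?_⟩
  rintro _ ⟨x, hx, rfl⟩ x1
  refine eq_bot_iff.2 ?_
  rintro _ ⟨⟨y, hy, rfl⟩, hc⟩
  have h2 : x * y * (x : G)⁻¹ * (y : G)⁻¹ ∈ M ⊓ F := ⟨by
    have := mem_cent1.1 hc
    rw [← map_mul, ← map_mul, eq_comm, ← mul_inv_eq_one, ← map_inv, ← map_mul] at this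
    simpa [mem_subgroupOf, mul_assoc] using (QuotientGroup.eq_one_iff _).1 this,
    F.mul_mem (conj_mem_of_norm (h.hF hx) hy) (F.inv_mem hy)⟩
  rw [(h.toFP.sub hM.le h1).disj, mem_bot, mul_inv_eq_one, mul_inv_eq_iff_eq_mul] at h2
  have h3 : (y : G) ∈ F ⊓ 𝐂[(x : G)] := ⟨hy, mem_cent1.2 h2.symm⟩
  rw [h.reg x hx fun e => x1 (by rw [show x = 1 from Subtype.ext e]; exact map_one _), mem_bot] at h3
  rw [show y = 1 from Subtype.ext h3, map_one]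
  exact one_mem _

open scoped IsMulCommutative in
theorem Fr.cover_ab (h : Fr V F H) (hV : IsMulCommutative V) (hg : ∀ x ∈ H, g⁻¹ * x * g * x⁻¹ ∈ V) :
    ∃ v ∈ V, g * v ∈ 𝐂(H) := by
  have := Fintype.ofFinite 𝐍(V)
  obtain ⟨w, hw⟩ := cobound V.normalizerMonoidHom (subOf_le_norm h.hF _) (semiReg_subOf h.reg _)
    (fix_subOf h.norm h.fpf) (fun x => ⟨_, hg x x.2⟩) fun x y => Subtype.ext (by
      change g⁻¹ * (x * y) * g * (x * y : G)⁻¹ = g⁻¹ * x * g * (x : G)⁻¹ * (x * (g⁻¹ * y * g * (y : G)⁻¹) * (x : G)⁻¹)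
      group)
  refine ⟨w⁻¹, inv_mem w.2, mem_cent.2 fun x hx => ?_⟩
  have h1 := hw ⟨⟨x, h.hN hx⟩, hx⟩
  rw [mul_comm] at h1
  have h2 : w * (g⁻¹ * x * g * x⁻¹) = x * w * x⁻¹ := congrArg Subtype.val h1
  rw [show x * (g * (w : G)⁻¹) = g * (w : G)⁻¹ * (w * (g⁻¹ * x * g * x⁻¹)) * x * (w : G)⁻¹ by group, h2]
  group

open scoped IsMulCommutative in
theorem le_of_fix_ab (hV : IsMulCommutative V) (h1 : Q ≤ 𝐍(V)) (h2 : H ≤ 𝐍(V)) (h3 : H ≤ 𝐍(Q)) (reg : SemiReg Q H)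
    (h0 : V ⊓ 𝐂(Q) = ⊥) (hc : (Nat.card V).Coprime (Nat.card Q)) (hU : ∀ q ∈ Q, q ⋆ (V ⊓ 𝐂(H)) ≤ U) : V ≤ U := by
  classical
  have := Fintype.ofFinite 𝐍(V)
  intro v hv
  obtain ⟨w, hw⟩ := (powCoprime hc).surjective ⟨v, hv⟩
  have e := pow_card_eq V.normalizerMonoidHom (subOf_le_norm h3 _) (semiReg_subOf reg _) (fix_subOf h1 h0) w
  rw [subOf_card h1, ← powCoprime_apply hc, hw] at e
  suffices (⟨v, hv⟩ : V) ∈ U.subgroupOf V from this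
  rw [← e]
  refine prod_mem fun q _ => hU _ (inv_mem q.2) (conj_mem_conj.2 ⟨Subtype.property _, mem_cent.2 fun x hx => ?_⟩)
  exact mul_inv_eq_iff_eq_mul.1 (congrArg Subtype.val (prod_fix V.normalizerMonoidHom (H.subgroupOf 𝐍(V)) _
    (b := ⟨x, h2 hx⟩) hx))

theorem FP.p'_fpf [Fact p.Prime] (h : FP V F) (hV : IsPGroup p V) : V ⊓ 𝐂(𝐎({p}ᶜ, F)) = ⊥ := by
  have d := nil_pcore_dprod h.nil {p}
  by_contra e
  refine ne_bot_of_dvd (Fact.out : p.Prime) (dvd_card_cent (pcore_pgroup p F) (norm_inf ((pcore_le _ _).trans h.norm)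
    (norm_cent (norm_of_cent d.cent))) (pgroup_dvd_card (pgroup_of_le hV inf_le_left) e)) ?_
  rw [inf_assoc, ← cent_sup, d.symm.sup, h.fpf]

theorem Fr.le_ab [Fact p.Prime] (h : Fr V F H) (hV : IsMulCommutative V) (hp : IsPGroup p V)
    (hU : ∀ q ∈ F, q ⋆ (V ⊓ 𝐂(H)) ≤ U) : V ≤ U :=
  le_of_fix_ab hV ((pcore_le _ _).trans h.norm) h.hN (norm_pcore h.hF _)
    (fun x hx h1 => eq_bot_mono (h.reg x hx h1) (inf_le_inf_right _ (pcore_le _ _))) (h.p'_fpf hp)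
    ((pcore_pi {p}ᶜ F).coprime_pgroup hp).symm fun q hq => hU q (pcore_le _ _ hq)

theorem Fr.fix_ne (h : Fr N F H) (hN : N ≠ ⊥) : N ⊓ 𝐂(H) ≠ ⊥ := fun e => by
  obtain ⟨p, hp, hd⟩ := Nat.exists_prime_and_dvd (card_ne_one hN)
  have := Fact.mk hp
  obtain ⟨S, hS, h1⟩ := h.syl p
  have h2 := h.sub' (inf_le_left.trans hS.le) (norm_center (h.syl_norm hS h1))
  refine center_ne_bot_of_nil hS.nil (hS.ne_bot' hd) (eq_bot_iff.2
    (h2.le_ab (abelian_center S) (pgroup_of_le hS.pgroup inf_le_left) fun q _ => ?_))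
  rw [eq_bot_mono e (inf_le_inf_right _ (inf_le_left.trans hS.le)), Subgroup.map_bot]

end

theorem cover_aux (n : ℕ) : ∀ (G : Type u) [Group G] [Finite G] (N F H : Subgroup G) (g : G), Nat.card N = n →
    Fr N F H → g ∈ 𝐍(N) → (∀ x ∈ H, g⁻¹ * x * g * x⁻¹ ∈ N) → ∃ v ∈ N, g * v ∈ 𝐂(H) := by
  induction n using Nat.strong_induction_on with
  | _ n ih =>
  intro G _ _ N F H g hn h hg hc
  subst hn
  by_cases hN : N = ⊥
  · subst hN
    exact h.cover_ab abelian_bot hc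
  obtain ⟨p, hp, hd⟩ := Nat.exists_prime_and_dvd (card_ne_one hN)
  have := Fact.mk hp
  obtain ⟨S, hS, h1⟩ := h.syl p
  have h2 := h.syl_norm hS h1
  obtain ⟨m, hm, e⟩ := hS.exists_conj_eq (hS.conj_of_norm (inv_mem hg))
  have g1 : g * m ∈ 𝐍(S) := norm_of_conj_eq (by rw [← conj_conj, ← e, conj_inv_conj])
  have g2 : g * m ∈ 𝐍(N) := mul_mem hg (le_norm N hm)
  have g3 : ∀ x ∈ H, (g * m)⁻¹ * x * (g * m) * x⁻¹ ∈ N := fun x hx => by
    have := mul_mem (mul_mem (inv_mem hm) (hc x hx)) (conj_mem_of_norm (h.hN hx) hm)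
    convert this using 1
    group
  suffices ∃ v ∈ N, g * m * v ∈ 𝐂(H) by
    obtain ⟨v, hv, e⟩ := this
    exact ⟨m * v, mul_mem hm hv, by rwa [← mul_assoc]⟩
  generalize g * m = g at g1 g2 g3
  have hH : H ≤ 𝐍(S) := (le_inf h.hN h.hF).trans h2
  by_cases hn : N ≤ 𝐍(S)
  · have hZ : Nml 𝐙(S) N := (⟨hS.le, hn⟩ : Nml S N).center
    have z1 : g ∈ 𝐍(𝐙(S)) := norm_center le_rfl g1
    have z2 : H ≤ 𝐍(𝐙(S)) := norm_center hH
    obtain ⟨_, ⟨v, hv, rfl⟩, e⟩ := ih _ (by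
      have h4 := card_quo_mul hZ
      have h6 : 1 < Nat.card ↥𝐙(S) := (one_lt_card_iff_ne_bot _).2 (center_ne_bot_of_nil hS.nil (hS.ne_bot' hd))
      have h7 : 0 < Nat.card (quo N 𝐙(S)) := Nat.card_pos
      nlinarith) _ _ _ _ (qhom _ ⟨g, z1⟩) rfl (h.quo hZ (norm_center h1)) (quo_norm le_rfl _ ⟨⟨g, z1⟩, g2, rfl⟩) (by
      rintro _ ⟨x, hx, rfl⟩
      exact ⟨(⟨g, z1⟩ : 𝐍(𝐙(S)))⁻¹ * x * ⟨g, z1⟩ * x⁻¹, g3 x hx, by simp only [map_mul, map_inv]⟩)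
    obtain ⟨w, hw, e'⟩ := (h.sub hZ.le (norm_center h1) z2).cover_ab (g := g * v) (abelian_center S) fun x hx => by
      have := mem_cent.1 e _ ⟨⟨x, z2 hx⟩, hx, rfl⟩
      rw [← map_mul, ← map_mul, ← map_mul, eq_comm, ← inv_mul_eq_one, ← map_inv, ← map_mul] at this
      have h5 : (g * v * x)⁻¹ * (x * (g * v)) ∈ 𝐙(S) := mem_subgroupOf.1 ((QuotientGroup.eq_one_iff _).1 this)
      convert conj_mem_of_norm (z2 hx) h5 using 1
      group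
    exact ⟨v * w, mul_mem hv (hZ.le hw), by rwa [← mul_assoc]⟩
  · obtain ⟨v, hv, e⟩ := ih _ (card_lt_of_lt (lt_of_le_of_ne inf_le_left fun e => hn (inf_eq_left.1 e))) G
      (N ⊓ 𝐍(S)) F H g rfl (h.sub' inf_le_left (norm_inf inf_le_left (norm_norm h2)))
      (norm_inf inf_le_left (norm_norm inf_le_right) ⟨g2, g1⟩) fun x hx =>
        mem_inf.2 ⟨g3 x hx, mul_mem (mul_mem (mul_mem (inv_mem g1) (hH hx)) g1) (inv_mem (hH hx))⟩
    exact ⟨v, hv.1, e⟩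

variable {G : Type*} [Group G] [Finite G] {N F H M U : Subgroup G} {g : G}

/-- Fixed cosets contain fixed points. -/
theorem Fr.cover (h : Fr N F H) (hg : g ∈ 𝐍(N)) (hc : ∀ x ∈ H, g⁻¹ * x * g * x⁻¹ ∈ N) : ∃ v ∈ N, g * v ∈ 𝐂(H) :=
  cover_aux _ G N F H g rfl h hg hc

theorem Fr.quo_cent (h : Fr M F H) (hM : Nml M N) : BG.quo N M ⊓ 𝐂(BG.quo H M) = BG.quo (N ⊓ 𝐂(H)) M := by
  refine le_antisymm ?_ ((quo_inf_le _ _ _).trans (inf_le_inf_left _ (cent_symm (BG.quo_cent (cent_symm le_rfl) M))))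
  rintro _ ⟨⟨g, hg, rfl⟩, hc⟩
  obtain ⟨v, hv, e⟩ := h.cover g.2 fun x hx => by
    have := mem_cent.1 hc _ ⟨⟨x, h.hN hx⟩, hx, rfl⟩
    rw [← map_mul, ← map_mul, eq_comm, ← inv_mul_eq_one, ← map_inv, ← map_mul] at this
    have h5 : ((g : G) * x)⁻¹ * (x * g) ∈ M := mem_subgroupOf.1 ((QuotientGroup.eq_one_iff _).1 this)
    convert conj_mem_of_norm (h.hN hx) h5 using 1
    group
  refine ⟨g * ⟨v, le_norm M hv⟩, mem_inf.2 ⟨mul_mem hg (hM.le hv), e⟩, ?_⟩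
  rw [map_mul, show qhom M ⟨v, le_norm M hv⟩ = 1 from (QuotientGroup.eq_one_iff _).2 hv, mul_one]

/-- The subgroup generated by the `F`-conjugates of `C_N(H)`. -/
def gen (N F H : Subgroup G) : Subgroup G := ⨆ f ∈ F, f ⋆ (N ⊓ 𝐂(H))

omit [Finite G] in
theorem le_gen (hg : g ∈ F) : g ⋆ (N ⊓ 𝐂(H)) ≤ gen N F H := le_iSup₂_of_le g hg le_rfl

theorem Fr.gen_eq (h : Fr N F H) : gen N F H = N := by
  have le : ∀ N : Subgroup G, F ≤ 𝐍(N) → gen N F H ≤ N := fun N h1 =>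
    iSup₂_le fun f hf => conj_le_of_norm inf_le_left (h1 hf)
  refine le_antisymm (le N h.norm) (Syl.le_of_forall fun p hp _ => ?_)
  have := Fact.mk hp
  obtain ⟨S, hS, h1⟩ := h.syl p
  refine ⟨S, hS, le_trans ?_ (iSup₂_mono fun f _ => conj_mono f (inf_le_inf_right _ hS.le))⟩
  have h2 := h.sub' hS.le (h.syl_norm hS h1)
  have nF : F ≤ 𝐍(gen S F H) := fun f hf => mem_normalizer_of_conj_le (by
    simp only [gen, Subgroup.map_iSup]
    exact iSup₂_le fun x hx => conj_conj f x _ ▸ le_gen (mul_mem hf hx))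
  have nH : H ≤ 𝐍(gen S F H) := fun f hf => mem_normalizer_of_conj_le (by
    simp only [gen, Subgroup.map_iSup]
    refine iSup₂_le fun x hx => ?_
    rw [conj_conj, show f * x = f * x * f⁻¹ * f by group, ← conj_conj,
      conj_eq_of_norm (norm_inf h2.hN (norm_cent (le_norm H)) hf)]
    exact le_gen (conj_mem_of_norm (h.hF hf) hx))
  by_contra e
  have h3 := nil_norm_grow hS.nil (lt_of_le_of_ne (le S h1) fun e' => e e'.ge)
  have h4 : Nml (gen S F H) (S ⊓ 𝐍(gen S F H)) := ⟨h3.le, inf_le_right⟩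
  refine ((h2.sub inf_le_left (norm_inf h1 (norm_norm nF)) (norm_inf h2.hN (norm_norm nH))).quo h4 nF).fix_ne
    (fun e => h3.not_ge ((quo_eq_bot_iff inf_le_right).1 e)) ?_
  rw [(h2.sub (le S h1) nF nH).quo_cent h4]
  refine quo_eq_bot (le_trans ?_ (le_gen (one_mem F)))
  rw [conj_one]
  exact inf_le_inf_right _ inf_le_left

end Cfsg.Lib.FH
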