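import Cfsg.Agent.Lib.FH.B
import Cfsg.Agent.Lib.FGS.TwoFrob
import Cfsg.Agent.Lib.PGroup.Holomorph

/-!
# Frobenius groups of automorphisms: passage to the holomorph
-/

set_option autoImplicit false

namespace Cfsg.Lib.FH

open Subgroup Cfsg.Lib.BG Cfsg.Lib.Transfer Cfsg.Lib.PGroup

variable (A G : Type*) [Group G] [Group A] [MulDistribMulAction A G]

/-- The operator group inside the holomorph. -/
def op : A →* Hol G := (holR G).comp (MulDistribMulAction.toMulAut A G)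

variable {A G} {B : Subgroup A} {K : Subgroup G} {g : G}

theorem op_conj (a : A) (g : G) : op A G a * holL G g * (op A G a)⁻¹ = holL G (a • g) := hol_conj _ g

theorem op_inj [FaithfulSMul A G] : Function.Injective (op A G) :=
  holR_injective.comp fun _ _ e => eq_of_smul_eq_smul fun g : G => DFunLike.congr_fun e g

theorem mem_cent_op : holL G g ∈ 𝐂(B.map (op A G)) ↔ ∀ a ∈ B, a • g = g := by
  rw [op, ← map_map, holL_mem_centralizer_iff]
  exact Set.forall_mem_image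

theorem norm_op : B.map (op A G) ≤ 𝐍(K.map (holL G)) ↔ ∀ a ∈ B, ∀ x ∈ K, a • x ∈ K := by
  rw [op, ← map_map, map_holR_le_normalizer_iff]
  exact Set.forall_mem_image

theorem fp_op (hB : Group.IsNilpotent B) (h1 : ∀ a ∈ B, ∀ x ∈ K, a • x ∈ K)
    (h2 : ∀ g ∈ K, (∀ a ∈ B, a • g = g) → g = 1) : FP (K.map (holL G)) (B.map (op A G)) := by
  refine ⟨norm_op.2 h1, nil_map _ hB, eq_bot_iff.2 ?_⟩
  rintro _ ⟨⟨g, hg, rfl⟩, hc⟩
  rw [h2 g hg (mem_cent_op.1 hc), map_one]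
  exact one_mem _

theorem map_inf_cent_op {C : Subgroup G} (hC : ∀ g, g ∈ C ↔ ∀ a ∈ B, a • g = g) :
    K.map (holL G) ⊓ 𝐂(B.map (op A G)) = (K ⊓ C).map (holL G) := by
  ext x
  constructor
  · rintro ⟨⟨g, hg, rfl⟩, hc⟩
    exact ⟨g, ⟨hg, (hC g).2 (mem_cent_op.1 hc)⟩, rfl⟩
  · rintro ⟨g, hg, rfl⟩
    exact ⟨⟨g, hg.1, rfl⟩, mem_cent_op.2 ((hC g).1 hg.2)⟩

theorem fr_op [Finite A] [FaithfulSMul A G] {F H : Subgroup A} [F.Normal] (hH : IsFrobeniusComplement H)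
    (hk : frobeniusKernel H = F) (h1 : ∀ (a : A), ∀ x ∈ K, a • x ∈ K) (h2 : ∀ g ∈ K, (∀ a ∈ F, a • g = g) → g = 1) :
    Fr (K.map (holL G)) (F.map (op A G)) (H.map (op A G)) := by
  obtain ⟨-, h3, -, -, h4, -⟩ := FGS.frob_facts hH hk
  refine ⟨fp_op h4 (fun a _ => h1 a) h2, norm_op.2 fun a _ => h1 a, map_norm _ le_normalizer_of_normal, ?_⟩
  rintro _ ⟨x, hx, rfl⟩ x1
  refine eq_bot_iff.2 ?_
  rintro _ ⟨⟨y, hy, rfl⟩, hc⟩
  have h5 : y ∈ F ⊓ 𝐂[x] := ⟨hy, mem_cent1.2 (op_inj (G := G) (by simpa only [map_mul] using mem_cent1.1 hc))⟩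
  rw [h3 x hx fun e => x1 (by rw [e, map_one]), mem_bot] at h5
  rw [h5, map_one]
  exact one_mem _

end Cfsg.Lib.FH
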